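import Mathlib.Algebra.Module.FinitePresentation
import Mathlib.Algebra.Module.Projective
import Mathlib.LinearAlgebra.Dimension.Free
import Mathlib.RingTheory.LocalRing.Module
import Mathlib.RingTheory.Localization.AtPrime.Basic
import Mathlib.RingTheory.Ideal.GoingUp
import Mathlib.RingTheory.QuasiFinite.Basic
import Mathlib.RingTheory.Spectrum.Prime.Basic
import Mathlib.RingTheory.LocalProperties.Projective
import Mathlib.RingTheory.TensorProduct.IsBaseChangePi

/-! Local bases of projective modules, and local generators of invertible modules over finite algebras. -/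

set_option autoImplicit false

universe u v

namespace Groth.Agent.DetNorm

variable {R : Type u} [CommRing R] {M : Type v} [AddCommGroup M] [Module R M]

theorem exists_approx [Module.Finite R M] [Module.Projective R M] (q : Ideal R) [q.IsPrime] (r : ℕ)
    (h : Module.finrank (Localization.AtPrime q) (LocalizedModule q.primeCompl M) = r) :
    ∃ a ∉ q, ∃ (u : (Fin r → R) →ₗ[R] M) (v : M →ₗ[R] (Fin r → R)),
      u ∘ₗ v = a • LinearMap.id ∧ v ∘ₗ u = a • LinearMap.id := by
  classical
  let Rq := Localization.AtPrime q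
  let Mq := LocalizedModule q.primeCompl M
  let f : M →ₗ[R] Mq := LocalizedModule.mkLinearMap q.primeCompl M
  haveI : Module.Finite Rq Mq := Module.Finite.of_isLocalizedModule q.primeCompl f
  haveI : Module.Projective Rq Mq := Module.projective_of_isLocalizedModule q.primeCompl f
  haveI : Module.Free Rq Mq := Module.free_of_flat_of_isLocalRing
  let b := Module.finBasisOfFinrankEq Rq Mq h
  choose m hm using fun i => IsLocalizedModule.surj q.primeCompl f (b i)
  let u : (Fin r → R) →ₗ[R] M := Fintype.linearCombination R fun i => (m i).1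
  let g : (Fin r → R) →ₗ[R] (Fin r → Rq) := LinearMap.pi fun i => (Algebra.linearMap R Rq).comp (LinearMap.proj i)
  have hu : ∀ i, f (u (Pi.single i 1)) = ((m i).2 : R) • b i := fun i => by
    rw [Fintype.linearCombination_apply_single, one_smul, ← hm i]
    rfl
  let τ : (Fin r → Rq) →ₗ[Rq] (Fin r → Rq) := LinearMap.pi fun i =>
    (Classical.choose (IsLocalization.map_units Rq (m i).2).exists_left_inv) • LinearMap.proj i
  let w : M →ₗ[R] (Fin r → Rq) := ((τ ∘ₗ (b.equivFun : Mq →ₗ[Rq] _)).restrictScalars R).comp f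
  haveI : IsLocalizedModule q.primeCompl g :=
    IsLocalizedModule.pi q.primeCompl fun _ : Fin r => Algebra.linearMap R Rq
  haveI : Module.FinitePresentation R M := Module.finitePresentation_of_projective R M
  obtain ⟨v, s, hv⟩ := Module.FinitePresentation.exists_lift_of_isLocalizedModule q.primeCompl g w
  have hfu : ∀ x, f (u x) = b.equivFun.symm (fun i => algebraMap R Rq ((m i).2 * x i)) := fun x => by
    rw [Module.Basis.equivFun_symm_apply, Fintype.linearCombination_apply, map_sum]
    refine Finset.sum_congr rfl fun i _ => ?_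
    rw [map_smul, show f (m i).1 = ((m i).2 : R) • b i from (hm i).symm, smul_smul, algebraMap_smul, mul_comm]
  have hτ : ∀ x : Fin r → R, τ (fun i => algebraMap R Rq ((m i).2 * x i)) = g x := fun x => funext fun i => by
    show (Classical.choose (IsLocalization.map_units Rq (m i).2).exists_left_inv) • algebraMap R Rq ((m i).2 * x i) =
      algebraMap R Rq (x i)
    rw [smul_eq_mul, map_mul, ← mul_assoc,
      Classical.choose_spec (IsLocalization.map_units Rq (m i).2).exists_left_inv, one_mul]
  have hgv : ∀ y, g (v y) = (s : R) • w y := fun y => LinearMap.congr_fun hv y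
  have h1 : g ∘ₗ (v ∘ₗ u) = g ∘ₗ ((s : R) • LinearMap.id) := LinearMap.ext fun x => by
    show g (v (u x)) = g ((s : R) • x)
    rw [hgv, map_smul]
    congr 1
    show τ (b.equivFun (f (u x))) = g x
    rw [hfu, LinearEquiv.apply_symm_apply, hτ]
  have h2 : f ∘ₗ (u ∘ₗ v) = f ∘ₗ ((s : R) • LinearMap.id) := LinearMap.ext fun y => by
    show f (u (v y)) = f ((s : R) • y)
    rw [hfu, map_smul]
    apply b.equivFun.injective
    rw [LinearEquiv.apply_symm_apply, ← algebraMap_smul Rq (s : R) (f y), map_smul, algebraMap_smul]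
    funext i
    have hi : algebraMap R Rq (v y i) = ((s : R) • w y) i := congrFun (hgv y) i
    show algebraMap R Rq ((m i).2 * v y i) = (s : R) • b.equivFun (f y) i
    rw [map_mul, hi, Pi.smul_apply]
    show algebraMap R Rq ((m i).2 : R) * ((s : R) • ((Classical.choose
      (IsLocalization.map_units Rq (m i).2).exists_left_inv) * b.equivFun (f y) i)) = _
    rw [mul_smul_comm, ← mul_assoc, mul_comm (algebraMap R Rq _),
      Classical.choose_spec (IsLocalization.map_units Rq (m i).2).exists_left_inv, one_mul]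
  obtain ⟨t₁, ht₁⟩ := Module.Finite.exists_smul_of_comp_eq_of_isLocalizedModule q.primeCompl g _ _ h1
  obtain ⟨t₂, ht₂⟩ := Module.Finite.exists_smul_of_comp_eq_of_isLocalizedModule q.primeCompl f _ _ h2
  refine ⟨(t₁ * t₂ : q.primeCompl) * s, fun hq => ?_, ((t₁ * t₂ : q.primeCompl) : R) • u, v, ?_, ?_⟩
  · exact ((t₁ * t₂) * s).2 hq
  · ext y
    have := LinearMap.congr_fun ht₂ y
    simp only [LinearMap.smul_apply, LinearMap.comp_apply, Submonoid.smul_def, LinearMap.id_apply] at this
    simp only [LinearMap.comp_apply, LinearMap.smul_apply, LinearMap.id_apply, Submonoid.coe_mul, mul_smul, this]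
  · apply LinearMap.ext
    intro x
    have := LinearMap.congr_fun ht₁ x
    simp only [LinearMap.smul_apply, LinearMap.comp_apply, Submonoid.smul_def, LinearMap.id_apply] at this
    simp only [LinearMap.comp_apply, LinearMap.smul_apply, LinearMap.id_apply, Submonoid.coe_mul, mul_smul,
      map_smul]
    rw [smul_comm (t₁ : R), smul_comm (t₁ : R), this]

/-- The data of a generator of a rank one module up to the scalar `a`. -/
def IsGen {B : Type u} [CommRing B] [Module B M] (a : B) (e : M) (p : M →ₗ[B] B) : Prop :=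
  (∀ m, p m • e = a • m) ∧ p e = a

theorem exists_isGen_of_prime {B : Type u} [CommRing B] [Module B M] [Module.Finite B M] [Module.Projective B M]
    (P : Ideal B) [P.IsPrime] (h : Module.finrank (Localization.AtPrime P) (LocalizedModule P.primeCompl M) = 1) :
    ∃ a ∉ P, ∃ e p, IsGen (M := M) a e p := by
  obtain ⟨a, ha, u, v, huv, hvu⟩ := exists_approx P 1 h
  refine ⟨a, ha, u (fun _ => 1), (LinearMap.proj 0).comp v, fun m => ?_, ?_⟩
  · rw [← map_smul]
    have : (LinearMap.proj 0).comp v m • (fun _ : Fin 1 => (1 : B)) = v m := funext fun i => by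
      simp [Subsingleton.elim i 0]
    rw [this]
    exact LinearMap.congr_fun huv m
  · have := congrFun (LinearMap.congr_fun hvu (fun _ => (1 : B))) 0
    simpa using this

theorem dual_comm {B : Type u} [CommRing B] [Module B M] [Module.Finite B M] [Module.Projective B M]
    (h : ∀ P : PrimeSpectrum B,
      Module.finrank (Localization.AtPrime P.asIdeal) (LocalizedModule P.asIdeal.primeCompl M) = 1)
    (p : M →ₗ[B] B) (m x : M) : p m • x = p x • m := by
  rw [← sub_eq_zero]
  by_contra hne
  have hJ : LinearMap.ker (LinearMap.toSpanSingleton B M (p m • x - p x • m)) ≠ ⊤ := fun hJ => hne (by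
    simpa using (hJ.ge (Submodule.mem_top (x := (1 : B)))))
  obtain ⟨P, hP, hJP⟩ := Ideal.exists_le_maximal _ hJ
  haveI := hP.isPrime
  obtain ⟨a, ha, e, r, hr, -⟩ := exists_isGen_of_prime (M := M) P (h ⟨P, inferInstance⟩)
  refine (‹P.IsPrime›.mul_notMem ha ha) (hJP ?_)
  have key : ∀ m x, (a * a) • (p m • x) = (p e * (r m * r x)) • e := fun m x => by
    have hm : a * p m = r m * p e := by
      rw [← smul_eq_mul, ← map_smul, ← hr, map_smul, smul_eq_mul]
    rw [smul_smul, show a * a * p m = (a * p m) * a by ring, mul_smul,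
      ← hr x, smul_smul, hm]
    congr 1
    ring
  simp only [LinearMap.mem_ker, LinearMap.toSpanSingleton_apply]
  rw [smul_sub, key, key, mul_comm (r x)]
  exact sub_self _

theorem exists_isGen {A B : Type u} [CommRing A] [CommRing B] [Algebra A B] [Module.Finite A B]
    [Module B M] [Module.Finite B M] [Module.Projective B M]
    (h : ∀ P : PrimeSpectrum B,
      Module.finrank (Localization.AtPrime P.asIdeal) (LocalizedModule P.asIdeal.primeCompl M) = 1)
    (q : Ideal A) [q.IsPrime] : ∃ a ∉ q, ∃ e p, IsGen (M := M) (algebraMap A B a) e p := by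
  classical
  let S := (Algebra.QuasiFinite.finite_primesOver (S := B) q).toFinset
  have hS : ∀ P ∈ S, P.IsPrime ∧ P.LiesOver q := fun P hP => by
    simpa [S, Ideal.primesOver] using hP
  have hgen : ∀ P : S, ∃ a ∉ P.1, ∃ e p, IsGen (M := M) a e p := fun P => by
    haveI := (hS P P.2).1
    exact exists_isGen_of_prime P.1 (h ⟨P.1, inferInstance⟩)
  choose aa haa ee pp hgen using hgen
  have hc : ∀ P : S, ∃ c : B, c ∉ P.1 ∧ ∀ Q : S, Q ≠ P → c ∈ Q.1 := fun P => by
    haveI := (hS P P.2).1
    have hle : ∀ Q : S, Q ≠ P → ¬ Q.1 ≤ P.1 := fun Q hQ hle => by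
      haveI := (hS Q Q.2).1
      obtain ⟨y, hyP, hyQ⟩ := SetLike.exists_of_lt (Ideal.IsIntegral.comap_lt_comap (R := A)
        (lt_of_le_of_ne hle fun e => hQ (Subtype.ext e)))
      exact hyQ (by rw [← Ideal.under_def, ← (hS Q Q.2).2.over, (hS P P.2).2.over]; exact hyP)
    choose z hz1 hz2 using fun Q : {Q : S // Q ≠ P} => SetLike.not_le_iff_exists.1 (hle Q.1 Q.2)
    refine ⟨∏ Q, z Q, fun hmem => ?_, fun Q hQ => Ideal.prod_mem _ (Finset.mem_univ ⟨Q, hQ⟩) (hz1 ⟨Q, hQ⟩)⟩
    obtain ⟨Q, -, hQ⟩ := (Ideal.IsPrime.prod_mem_iff).1 hmem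
    exact hz2 Q hQ
  choose c hc1 hc2 using hc
  let e : M := ∑ P, c P • ee P
  let p : M →ₗ[B] B := ∑ P, c P • pp P
  have hβ : ∀ P : S, p e ∉ P.1 := fun P hmem => by
    haveI := (hS P P.2).1
    have hother : ∀ Q : S, Q ≠ P → c Q ∈ P.1 := fun Q hQ => hc2 Q P hQ.symm
    have h1 : p e - (c P * c P) * aa P ∈ P.1 := by
      have hp : p e = ∑ Q, ∑ Q', c Q * c Q' * pp Q (ee Q') := by
        simp only [p, e, LinearMap.sum_apply, LinearMap.smul_apply, map_sum, map_smul, smul_eq_mul, Finset.mul_sum,
          mul_assoc]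
        rw [Finset.sum_comm]
        exact Finset.sum_congr rfl fun _ _ => Finset.sum_congr rfl fun _ _ => mul_left_comm _ _ _
      rw [hp, ← (hgen P).2, ← Finset.add_sum_erase _ _ (Finset.mem_univ P),
        ← Finset.add_sum_erase _ _ (Finset.mem_univ P), add_assoc, add_sub_cancel_left]
      refine add_mem (sum_mem fun Q hQ => ?_) (sum_mem fun Q hQ => sum_mem fun Q' _ => ?_)
      · exact Ideal.mul_mem_right _ _ (Ideal.mul_mem_left _ _ (hother Q (Finset.ne_of_mem_erase hQ)))
      · exact Ideal.mul_mem_right _ _ (Ideal.mul_mem_right _ _ (hother Q (Finset.ne_of_mem_erase hQ)))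
    exact ‹P.1.IsPrime›.mul_notMem (‹P.1.IsPrime›.mul_notMem (hc1 P) (hc1 P)) (haa P)
      ((P.1.sub_mem_iff_right hmem).1 h1)
  have hnle : ¬ (Ideal.span {p e}).comap (algebraMap A B) ≤ q := fun hle => by
    obtain ⟨P, hP, hPp, hPq⟩ := Ideal.exists_ideal_over_prime_of_isIntegral q (Ideal.span {p e}) hle
    have hPS : P ∈ S := (Set.Finite.mem_toFinset _).2 ⟨hPp, ⟨hPq.symm⟩⟩
    exact hβ ⟨P, hPS⟩ (hP (Ideal.mem_span_singleton_self _))
  obtain ⟨a, haI, haq⟩ := SetLike.not_le_iff_exists.1 hnle
  obtain ⟨b, hb⟩ := Ideal.mem_span_singleton'.1 (Ideal.mem_comap.1 haI)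
  refine ⟨a, haq, e, b • p, fun m => ?_, ?_⟩
  · rw [LinearMap.smul_apply, smul_eq_mul, mul_smul, dual_comm h p m e, smul_smul, hb]
  · rw [LinearMap.smul_apply, smul_eq_mul, hb]

end Groth.Agent.DetNorm
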