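import Groth.Agent.DetNorm.Tensor
import Mathlib.LinearAlgebra.Determinant
import Mathlib.LinearAlgebra.PiTensorProduct.Basic
import Mathlib.LinearAlgebra.TensorPower.Basic

/-! Generators of top exterior powers, tensor products and tensor powers; gluing of rank one modules. -/

set_option autoImplicit false

universe u

open TensorProduct

namespace Groth.Agent.DetNorm

variable {R : Type u} [CommRing R]

section Ext

variable {m : ℕ} {L : Type u} [AddCommGroup L] [Module R L]

/-- The wedge of the images of the standard basis. -/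
noncomputable def topGen (u : (Fin m → R) →ₗ[R] L) : ⋀[R]^m L :=
  exteriorPower.ιMulti R m fun i => u (Pi.single i 1)

/-- The determinant of coordinates. -/
noncomputable def topProj (v : L →ₗ[R] (Fin m → R)) : (⋀[R]^m L) →ₗ[R] R :=
  exteriorPower.alternatingMapLinearEquiv ((Pi.basisFun R (Fin m)).det.compLinearMap v)

theorem topProj_ιMulti (v : L →ₗ[R] (Fin m → R)) (w : Fin m → L) :
    topProj v (exteriorPower.ιMulti R m w) = (Pi.basisFun R (Fin m)).det (fun i => v (w i)) := by
  rw [topProj, exteriorPower.alternatingMapLinearEquiv_apply_ιMulti]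
  rfl

theorem topProj_topGen (v : L →ₗ[R] (Fin m → R)) (u : (Fin m → R) →ₗ[R] L) :
    topProj v (topGen u) = LinearMap.det (v ∘ₗ u) := by
  rw [topGen, topProj_ιMulti]
  have h := (Pi.basisFun R (Fin m)).det_comp (v ∘ₗ u) (Pi.basisFun R (Fin m))
  rw [Module.Basis.det_self, mul_one] at h
  rw [← h]
  congr 1
  funext i
  simp

theorem det_smul_ιMulti (w : Fin m → Fin m → R) :
    (Pi.basisFun R (Fin m)).det w • exteriorPower.ιMulti R m (fun i => (Pi.single i 1 : Fin m → R)) =
      exteriorPower.ιMulti R m w := by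
  classical
  let b := Pi.basisFun R (Fin m)
  let f : (Fin m → R) [⋀^Fin m]→ₗ[R] ⋀[R]^m (Fin m → R) :=
    (LinearMap.toSpanSingleton R _ (exteriorPower.ιMulti R m (fun i => (Pi.single i 1 : Fin m → R)))).compAlternatingMap
      b.det
  suffices f = exteriorPower.ιMulti R m from AlternatingMap.congr_fun this w
  refine b.ext_alternating fun σ hσ => ?_
  let τ : Equiv.Perm (Fin m) := Equiv.ofBijective σ ((Finite.injective_iff_bijective).1 hσ)
  have hb : (fun i => b (σ i)) = b ∘ τ := rfl
  have hb1 : (fun i => (Pi.single i 1 : Fin m → R)) = b := funext fun i => by simp [b]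
  show b.det (fun i => b (σ i)) • exteriorPower.ιMulti R m _ = _
  rw [hb, AlternatingMap.map_perm, AlternatingMap.map_perm, Module.Basis.det_self, hb1, smul_assoc, one_smul]

theorem isGen_top {a : R} (u : (Fin m → R) →ₗ[R] L) (v : L →ₗ[R] (Fin m → R))
    (huv : u ∘ₗ v = a • LinearMap.id) (hvu : v ∘ₗ u = a • LinearMap.id) :
    IsGen (a ^ m) (topGen u) (topProj v) := by
  refine ⟨fun x => ?_, ?_⟩
  · suffices h : (LinearMap.toSpanSingleton R _ (topGen u)) ∘ₗ topProj v = a ^ m • LinearMap.id from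
      LinearMap.congr_fun h x
    refine exteriorPower.linearMap_ext (AlternatingMap.ext fun w => ?_)
    simp only [LinearMap.compAlternatingMap_apply, LinearMap.comp_apply, LinearMap.toSpanSingleton_apply,
      topProj_ιMulti]
    have h := congrArg (exteriorPower.map m u) (det_smul_ιMulti fun i => v (w i))
    rw [map_smul, exteriorPower.map_apply_ιMulti, exteriorPower.map_apply_ιMulti] at h
    refine h.trans ?_
    rw [← map_smul_id, exteriorPower.map_apply_ιMulti, ← huv]
    rfl
  · rw [topProj_topGen, hvu, ← LinearMap.det_toMatrix', map_smul, LinearMap.toMatrix'_id, Matrix.det_smul,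
      Matrix.det_one, mul_one, Fintype.card_fin]

end Ext

theorem isGen_tmul {L L' : Type u} [AddCommGroup L] [Module R L] [AddCommGroup L'] [Module R L'] {a b : R}
    {e : L} {e' : L'} {p : L →ₗ[R] R} {p' : L' →ₗ[R] R} (h : IsGen a e p) (h' : IsGen b e' p') :
    IsGen (a * b) (e ⊗ₜ[R] e') (TensorProduct.lift ((LinearMap.mul R R).compl₁₂ p p')) := by
  refine ⟨fun z => ?_, ?_⟩
  · induction z using TensorProduct.induction_on with
    | zero => simp
    | add x y hx hy => rw [map_add, add_smul, hx, hy, smul_add]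
    | tmul x y =>
      show (p x * p' y) • (e ⊗ₜ[R] e') = (a * b) • (x ⊗ₜ[R] y)
      rw [← TensorProduct.smul_tmul_smul, h.1, h'.1, TensorProduct.smul_tmul_smul]
  · show p e * p' e' = a * b
    rw [h.2, h'.2]

theorem isGen_pow {L : Type u} [AddCommGroup L] [Module R L] {a : R} {e : L} {p : L →ₗ[R] R} (h : IsGen a e p)
    (k : ℕ) : IsGen (M := TensorPower R k L) (a ^ k) (PiTensorProduct.tprod R fun _ : Fin k => e)
      (PiTensorProduct.lift ((MultilinearMap.mkPiAlgebra R (Fin k) R).compLinearMap fun _ => p)) := by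
  refine ⟨fun z => ?_, ?_⟩
  · suffices hz : (LinearMap.toSpanSingleton R _ (PiTensorProduct.tprod R fun _ : Fin k => e)) ∘ₗ
        PiTensorProduct.lift ((MultilinearMap.mkPiAlgebra R (Fin k) R).compLinearMap fun _ => p) =
        a ^ k • LinearMap.id from LinearMap.congr_fun hz z
    refine PiTensorProduct.ext (MultilinearMap.ext fun w => ?_)
    simp only [LinearMap.compMultilinearMap_apply, LinearMap.comp_apply, LinearMap.toSpanSingleton_apply,
      PiTensorProduct.lift.tprod, MultilinearMap.compLinearMap_apply, MultilinearMap.mkPiAlgebra_apply,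
      LinearMap.smul_apply, LinearMap.id_apply]
    rw [← MultilinearMap.map_smul_univ]
    have : (fun i => p (w i) • e) = fun i => a • w i := funext fun i => h.1 _
    rw [this, MultilinearMap.map_smul_univ, Finset.prod_const, Finset.card_univ, Fintype.card_fin]
  · simp [PiTensorProduct.lift.tprod, h.2]

section Glue

variable {ι : Type} [Fintype ι] {L T : Type u} [AddCommGroup L] [Module R L] [AddCommGroup T] [Module R T]

theorem exists_hom_of_gens {a r : ι → R} {N j : ℕ} (hr : ∑ i, r i * a i ^ (N + j) = 1) (g : ι → L)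
    (φ : ι → L →ₗ[R] R) (h : ι → T) (ψ : ι → T →ₗ[R] R) (hh : ∀ i, IsGen (a i ^ N) (h i) (ψ i))
    (hcompat : ∀ s t, (a s * a t) ^ j * φ s (g t) = (a s * a t) ^ j * ψ s (h t)) :
    ∃ F : L →ₗ[R] T, ∀ t, a t ^ j • F (g t) = a t ^ j • h t := by
  refine ⟨∑ s, (r s * a s ^ j) • (φ s).smulRight (h s), fun t => ?_⟩
  simp only [LinearMap.sum_apply, LinearMap.smul_apply, LinearMap.smulRight_apply, Finset.smul_sum, smul_smul]
  rw [show a t ^ j • h t = ∑ s, (r s * a s ^ (N + j) * a t ^ j) • h t by
    rw [← Finset.sum_smul, ← Finset.sum_mul, hr, one_mul]]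
  refine Finset.sum_congr rfl fun s _ => ?_
  rw [show a t ^ j * (r s * a s ^ j * φ s (g t)) = r s * ((a s * a t) ^ j * ψ s (h t)) by
    rw [← hcompat]; ring, show r s * ((a s * a t) ^ j * ψ s (h t)) = r s * (a s * a t) ^ j * ψ s (h t) by ring,
    mul_smul, (hh s).1, smul_smul]
  congr 1
  ring

theorem nonempty_equiv_of_gens {a : ι → R} (hspan : Ideal.span (Set.range a) = ⊤) (N : ℕ) (g : ι → L)
    (φ : ι → L →ₗ[R] R) (hg : ∀ i, IsGen (a i ^ N) (g i) (φ i)) (h : ι → T) (ψ : ι → T →ₗ[R] R)
    (hh : ∀ i, IsGen (a i ^ N) (h i) (ψ i))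
    (hcompat : ∀ s t, ∃ j : ℕ, (a s * a t) ^ j * φ s (g t) = (a s * a t) ^ j * ψ s (h t)) :
    Nonempty (L ≃ₗ[R] T) := by
  classical
  choose jj hjj using hcompat
  let j := Finset.univ.sup fun st : ι × ι => jj st.1 st.2
  have hj : ∀ s t, (a s * a t) ^ j * φ s (g t) = (a s * a t) ^ j * ψ s (h t) := fun s t => by
    obtain ⟨d, hd⟩ := Nat.le.dest (Finset.le_sup (f := fun st : ι × ι => jj st.1 st.2) (Finset.mem_univ (s, t)))
    rw [show j = jj s t + d from hd.symm, pow_add, mul_right_comm, hjj, mul_right_comm]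
  have hpow : ∀ M, ∃ r : ι → R, ∑ i, r i * a i ^ M = 1 := fun M => by
    have h := Ideal.span_pow_eq_top _ hspan M
    rw [← Set.range_comp] at h
    obtain ⟨r, hr⟩ := Submodule.mem_span_range_iff_exists_fun R |>.1 ((Ideal.eq_top_iff_one _).1 h)
    exact ⟨r, hr⟩
  obtain ⟨r, hr⟩ := hpow (N + j)
  obtain ⟨F, hF⟩ := exists_hom_of_gens hr g φ h ψ hh hj
  obtain ⟨G, hG⟩ := exists_hom_of_gens hr h ψ g φ hg fun s t => (hj s t).symm
  obtain ⟨r', hr'⟩ := hpow (j + j + N)
  have main : ∀ {P Q : Type u} [AddCommGroup P] [Module R P] [AddCommGroup Q] [Module R Q] (p : ι → P)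
      (π : ι → P →ₗ[R] R) (q : ι → Q), (∀ i, IsGen (a i ^ N) (p i) (π i)) → ∀ (F : P →ₗ[R] Q) (G : Q →ₗ[R] P),
      (∀ t, a t ^ j • F (p t) = a t ^ j • q t) → (∀ t, a t ^ j • G (q t) = a t ^ j • p t) →
      G ∘ₗ F = LinearMap.id := fun {P Q} _ _ _ _ p π q hp F G hF hG => by
    refine eq_smul_of_cover (fun i => a i ^ (j + j + N)) r' hr' _ _ fun t => LinearMap.ext fun x => ?_
    have h2 : a t ^ (j + j) • G (F (p t)) = a t ^ (j + j) • p t := by
      rw [pow_add, mul_smul, mul_smul, ← map_smul, ← map_smul, hF, map_smul, map_smul, hG]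
    simp only [LinearMap.smul_apply, LinearMap.comp_apply, LinearMap.id_apply]
    rw [pow_add _ (j + j) N, mul_smul, mul_smul, ← map_smul G, ← map_smul F, ← (hp t).1, map_smul, map_smul,
      smul_comm, h2, smul_comm]
  exact ⟨LinearEquiv.ofLinearMap F G (main h ψ g hh G F hG hF) (main g φ h hg F G hF hG)⟩

end Glue

end Groth.Agent.DetNorm
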