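import Groth.Agent.DetNorm.Glue
import Mathlib.RingTheory.Norm.Transitivity
import Mathlib.RingTheory.Localization.Away.Basic

/-! The determinant over the base of a matrix over a finite algebra, in local coordinates. -/

set_option autoImplicit false

universe u

namespace Groth.Agent.DetNorm

variable {A B : Type u} [CommRing A] [CommRing B] [Algebra A B] {n : ℕ}

/-- The matrix of multiplication by `b` read from the coordinates `u` to the coordinates `v`. -/
noncomputable def coordMat (u : (Fin n → A) →ₗ[A] B) (v : B →ₗ[A] (Fin n → A)) (b : B) :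
    Matrix (Fin n) (Fin n) A :=
  LinearMap.toMatrix' (v ∘ₗ mulMap (A := A) B b ∘ₗ u)

theorem exists_det_comp_eq {ι : Type} [Fintype ι] [DecidableEq ι] (k : ℕ) (hk : Fintype.card ι = k + 1) (a : A)
    (u : (Fin n → A) →ₗ[A] B) (v : B →ₗ[A] (Fin n → A)) (huv : u ∘ₗ v = a • LinearMap.id)
    (hvu : v ∘ₗ u = a • LinearMap.id) (v' : B →ₗ[A] (Fin n → A)) (G : Matrix ι ι B) :
    ∃ j : ℕ, a ^ j * (Matrix.comp ι ι (Fin n) (Fin n) A (G.map (coordMat u v'))).det =
      a ^ j * (LinearMap.det (v' ∘ₗ u) ^ k * (coordMat u v' G.det).det) := by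
  classical
  let R' := Localization.Away a
  let α := algebraMap A R'
  have hu : IsUnit (α a) := IsLocalization.Away.algebraMap_isUnit a
  obtain ⟨ai, hai⟩ := hu.exists_left_inv
  have huv' : ∀ y, u (v y) = a • y := fun y => LinearMap.congr_fun huv y
  have hone : coordMat u v 1 = a • 1 := by
    rw [coordMat, show mulMap (A := A) B (1 : B) = LinearMap.id from LinearMap.ext fun x => one_mul x,
      LinearMap.id_comp, hvu, map_smul, LinearMap.toMatrix'_id]
  have hzero : coordMat u v 0 = 0 := by
    rw [coordMat, show mulMap (A := A) B (0 : B) = 0 from LinearMap.ext fun x => zero_mul x,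
      LinearMap.zero_comp, LinearMap.comp_zero, map_zero]
  have hadd : ∀ b b', coordMat u v (b + b') = coordMat u v b + coordMat u v b' := fun b b' => by
    rw [coordMat, show mulMap (A := A) B (b + b') = mulMap (A := A) B b + mulMap (A := A) B b' from
      LinearMap.ext fun x => add_mul b b' x, LinearMap.add_comp, LinearMap.comp_add, map_add]
    rfl
  have hmul : ∀ b b', coordMat u v b * coordMat u v b' = a • coordMat u v (b * b') := fun b b' => by
    simp only [coordMat]
    rw [← LinearMap.toMatrix'_comp, ← map_smul]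
    refine congrArg _ (LinearMap.ext fun x => ?_)
    show v (b * u (v (b' * u x))) = a • v (b * b' * u x)
    rw [huv', ← map_smul, mul_smul_comm, mul_assoc]
  have hmap : ∀ (c : A) (X : Matrix (Fin n) (Fin n) A), α.mapMatrix (c • X) = α c • α.mapMatrix X := fun c X => by
    ext i l
    simp [Matrix.map_apply]
  let χ : B →+* Matrix (Fin n) (Fin n) R' :=
    { toFun := fun b => ai • α.mapMatrix (coordMat u v b)
      map_one' := by rw [hone, hmap, map_one, smul_smul, hai, one_smul]
      map_mul' := fun b b' => by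
        rw [smul_mul_smul_comm, ← map_mul α.mapMatrix, hmul, hmap, smul_smul, mul_assoc, hai, mul_one]
      map_zero' := by rw [hzero, map_zero, smul_zero]
      map_add' := fun b b' => by rw [hadd, map_add, smul_add] }
  let Q := α.mapMatrix (LinearMap.toMatrix' (v' ∘ₗ u))
  have hX : ∀ b, α.mapMatrix (coordMat u v' b) = Q * χ b := fun b => by
    show _ = Q * (ai • α.mapMatrix (coordMat u v b))
    rw [mul_smul_comm, ← map_mul, coordMat, coordMat, ← LinearMap.toMatrix'_comp,
      show (v' ∘ₗ u) ∘ₗ (v ∘ₗ mulMap (A := A) B b ∘ₗ u) = a • (v' ∘ₗ mulMap (A := A) B b ∘ₗ u) from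
        LinearMap.ext fun x => by
          show v' (u (v (b * u x))) = a • v' (b * u x)
          rw [huv', map_smul],
      map_smul, hmap, smul_smul, hai, one_smul]
  have hR : α (Matrix.comp ι ι (Fin n) (Fin n) A (G.map (coordMat u v'))).det =
      α (LinearMap.det (v' ∘ₗ u) ^ k * (coordMat u v' G.det).det) := by
    have hL : α.mapMatrix (Matrix.comp ι ι (Fin n) (Fin n) A (G.map (coordMat u v'))) =
        Matrix.comp ι ι (Fin n) (Fin n) R' (Matrix.diagonal fun _ => Q) *
          Matrix.comp ι ι (Fin n) (Fin n) R' (G.map χ) := by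
      rw [show Matrix.comp ι ι (Fin n) (Fin n) R' (G.map χ) = Matrix.compRingEquiv ι (Fin n) R' (G.map χ) from rfl,
        show Matrix.comp ι ι (Fin n) (Fin n) R' (Matrix.diagonal fun _ => Q) =
          Matrix.compRingEquiv ι (Fin n) R' (Matrix.diagonal fun _ => Q) from rfl, ← map_mul]
      ext ⟨i, l⟩ ⟨i', l'⟩
      have := congrFun (congrFun (hX (G i i')) l) l'
      show α (coordMat u v' (G i i') l l') =
        ((Matrix.diagonal fun _ => Q : Matrix ι ι (Matrix (Fin n) (Fin n) R')) * (G.map χ : Matrix ι ι _)) i i' l l'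
      have hd := Matrix.diagonal_mul (fun _ : ι => Q) (G.map χ) i i'
      rw [hd]
      exact this
    have hD : (Matrix.comp ι ι (Fin n) (Fin n) R' (Matrix.diagonal fun _ => Q)).det = Q.det ^ (k + 1) := by
      rw [Matrix.comp_diagonal, Matrix.det_reindex_self, Matrix.det_blockDiagonal, Finset.prod_const,
        Finset.card_univ, hk]
    rw [map_mul, map_pow, ← LinearMap.det_toMatrix', RingHom.map_det, RingHom.map_det, RingHom.map_det, hL,
      Matrix.det_mul, hD, ← Matrix.det_det, hX, Matrix.det_mul, pow_succ, mul_assoc]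
  obtain ⟨⟨_, j, rfl⟩, hj⟩ := (IsLocalization.eq_iff_exists (Submonoid.powers a) R').1 hR
  exact ⟨j, hj⟩

end Groth.Agent.DetNorm
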