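import Groth.Agent.DetNorm.Glue
import Groth.Agent.DetNorm.Norm

/-! The top exterior power over the base of a projective module over a finite algebra. -/

set_option autoImplicit false
set_option backward.isDefEq.respectTransparency false

universe u

open TensorProduct

namespace Groth.Agent.DetNorm

variable {A B : Type u} [CommRing A] [CommRing B] [Algebra A B] {n : ℕ}
variable {M : Type u} [AddCommGroup M] [Module B M] [Module A M] [IsScalarTower A B M]

/-- Coordinates over the base in a product of copies of `Fin n → A`. -/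
def flat (n k : ℕ) : (Fin (n * k) → A) ≃ₗ[A] (Fin k → Fin n → A) :=
  (LinearEquiv.funCongrLeft A A ((finProdFinEquiv.symm.trans (Equiv.prodComm _ _)).symm)).trans
    (LinearEquiv.curry A A (Fin k) (Fin n))

theorem flat_apply (k : ℕ) (x : Fin (n * k) → A) (i : Fin k) (l : Fin n) :
    flat n k x i l = x (finProdFinEquiv (l, i)) := rfl

theorem flat_symm_apply (k : ℕ) (y : Fin k → Fin n → A) (p : Fin (n * k)) :
    (flat n k).symm y p = y (finProdFinEquiv.symm p).2 (finProdFinEquiv.symm p).1 := rfl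

theorem flat_single (k : ℕ) (p : Fin (n * k)) :
    flat n k (Pi.single p (1 : A)) =
      Pi.single (finProdFinEquiv.symm p).2 (Pi.single (finProdFinEquiv.symm p).1 1) := by
  obtain ⟨⟨l, i⟩, rfl⟩ := finProdFinEquiv.surjective p
  rw [Equiv.symm_apply_apply]
  funext i' l'
  rw [flat_apply]
  rcases eq_or_ne i' i with rfl | hi
  · rcases eq_or_ne l' l with rfl | hl
    · simp
    · rw [Pi.single_eq_same, Pi.single_eq_of_ne hl, Pi.single_eq_of_ne]
      exact fun h => hl (Prod.ext_iff.1 (finProdFinEquiv.injective h)).1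
  · rw [Pi.single_eq_of_ne hi, Pi.zero_apply, Pi.single_eq_of_ne]
    exact fun h => hi (Prod.ext_iff.1 (finProdFinEquiv.injective h)).2

/-- The composite coordinates over the base. -/
noncomputable def bigU (k : ℕ) (u : (Fin n → A) →ₗ[A] B) (U : (Fin k → B) →ₗ[B] M) :
    (Fin (n * k) → A) →ₗ[A] M :=
  U.restrictScalars A ∘ₗ (LinearMap.pi fun i => u ∘ₗ LinearMap.proj i) ∘ₗ (flat n k).toLinearMap

/-- The composite coordinates over the base, in the other direction. -/
noncomputable def bigV (k : ℕ) (v : B →ₗ[A] (Fin n → A)) (V : M →ₗ[B] (Fin k → B)) :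
    M →ₗ[A] (Fin (n * k) → A) :=
  (flat n k).symm.toLinearMap ∘ₗ (LinearMap.pi fun i => v ∘ₗ LinearMap.proj i) ∘ₗ V.restrictScalars A

theorem det_bigV_bigU (k : ℕ) (u : (Fin n → A) →ₗ[A] B) (v : B →ₗ[A] (Fin n → A))
    (U : (Fin k → B) →ₗ[B] M) (V : M →ₗ[B] (Fin k → B)) :
    LinearMap.det (bigV k v V ∘ₗ bigU k u U) = (Matrix.comp (Fin k) (Fin k) (Fin n) (Fin n) A
      ((LinearMap.toMatrix' (V ∘ₗ U)).map (coordMat u v))).det := by
  classical
  rw [← LinearMap.det_toMatrix', ← Matrix.det_submatrix_equiv_self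
    ((finProdFinEquiv (m := n) (n := k)).symm.trans (Equiv.prodComm _ _))]
  congr 1
  ext p q
  rw [LinearMap.toMatrix'_apply, Matrix.submatrix_apply]
  have hq : (fun i' => u ((flat n k (Pi.single q (1 : A))) i')) =
      u (Pi.single (finProdFinEquiv.symm q).1 1) • (Pi.single (finProdFinEquiv.symm q).2 1 : Fin k → B) := by
    funext i'
    rw [flat_single]
    rcases eq_or_ne i' (finProdFinEquiv.symm q).2 with rfl | h
    · rw [Pi.single_eq_same, Pi.smul_apply, Pi.single_eq_same, smul_eq_mul, mul_one]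
    · rw [Pi.single_eq_of_ne h, map_zero, Pi.smul_apply, Pi.single_eq_of_ne h, smul_zero]
  show v (V (U fun i' => u ((flat n k (Pi.single q (1 : A))) i')) (finProdFinEquiv.symm p).2)
      (finProdFinEquiv.symm p).1 = _
  rw [hq, map_smul, map_smul, Pi.smul_apply, smul_eq_mul]
  show _ = coordMat u v (LinearMap.toMatrix' (V ∘ₗ U) (finProdFinEquiv.symm p).2 (finProdFinEquiv.symm q).2)
      (finProdFinEquiv.symm p).1 (finProdFinEquiv.symm q).1
  rw [coordMat, LinearMap.toMatrix'_apply, LinearMap.toMatrix'_apply, mul_comm]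
  rfl

theorem nonempty_equiv_of_local_bases {ι : Type} [Fintype ι] (k : ℕ) (hk : 1 ≤ k) (a : ι → A)
    (hspan : Ideal.span (Set.range a) = ⊤)
    (u : ι → (Fin n → A) →ₗ[A] B) (v : ι → B →ₗ[A] (Fin n → A))
    (huv : ∀ i, u i ∘ₗ v i = a i • LinearMap.id) (hvu : ∀ i, v i ∘ₗ u i = a i • LinearMap.id)
    (U : ι → (Fin k → B) →ₗ[B] M) (V : ι → M →ₗ[B] (Fin k → B))
    (hUV : ∀ i, U i ∘ₗ V i = algebraMap A B (a i) • LinearMap.id)
    (hVU : ∀ i, V i ∘ₗ U i = algebraMap A B (a i) • LinearMap.id) :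
    Nonempty ((⋀[A]^(n * k) M) ≃ₗ[A] (TensorPower A (k - 1) (⋀[A]^n B)) ⊗[A] (⋀[A]^n (⋀[B]^k M))) := by
  classical
  have huv' : ∀ i y, u i (v i y) = a i • y := fun i y => LinearMap.congr_fun (huv i) y
  have hvu' : ∀ i y, v i (u i y) = a i • y := fun i y => LinearMap.congr_fun (hvu i) y
  have hbig₁ : ∀ i, bigU k (u i) (U i) ∘ₗ bigV k (v i) (V i) = (a i * a i) • LinearMap.id := fun i =>
    LinearMap.ext fun m => by
      show U i (fun l => u i ((flat n k ((flat n k).symm fun l => v i (V i m l))) l)) = (a i * a i) • m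
      rw [LinearEquiv.apply_symm_apply,
        show (fun l => u i (v i (V i m l))) = algebraMap A B (a i) • V i m from
          funext fun l => (huv' i _).trans (Algebra.smul_def _ _),
        map_smul, algebraMap_smul, show U i (V i m) = algebraMap A B (a i) • m from LinearMap.congr_fun (hUV i) m,
        algebraMap_smul, smul_smul]
  have hbig₂ : ∀ i, bigV k (v i) (V i) ∘ₗ bigU k (u i) (U i) = (a i * a i) • LinearMap.id := fun i =>
    LinearMap.ext fun x => by
      show (flat n k).symm (fun l => v i (V i (U i fun l => u i ((flat n k x) l)) l)) = (a i * a i) • x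
      rw [show V i (U i fun l => u i ((flat n k x) l)) = algebraMap A B (a i) • fun l => u i ((flat n k x) l) from
          LinearMap.congr_fun (hVU i) _,
        show (fun l => v i ((algebraMap A B (a i) • fun l => u i ((flat n k x) l)) l)) =
          (a i * a i) • flat n k x from funext fun l => by
            rw [Pi.smul_apply, algebraMap_smul, map_smul, hvu', smul_smul, Pi.smul_apply],
        map_smul, LinearEquiv.symm_apply_apply]
  let E : ι → (⋀[B]^k M) := fun i => topGen (U i)
  let P : ι → (⋀[B]^k M) →ₗ[B] B := fun i => topProj (V i)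
  have hEP : ∀ i, IsGen (algebraMap A B (a i) ^ k) (E i) (P i) := fun i => isGen_top _ _ (hUV i) (hVU i)
  let u₂ : ι → (Fin n → A) →ₗ[A] ⋀[B]^k M := fun i =>
    (LinearMap.toSpanSingleton B _ (E i)).restrictScalars A ∘ₗ u i
  let v₂ : ι → (⋀[B]^k M) →ₗ[A] (Fin n → A) := fun i => v i ∘ₗ (P i).restrictScalars A
  have huv₂ : ∀ i, u₂ i ∘ₗ v₂ i = a i ^ (k + 1) • LinearMap.id := fun i => LinearMap.ext fun z => by
    show u i (v i (P i z)) • E i = a i ^ (k + 1) • z
    rw [huv', smul_assoc, (hEP i).1, ← map_pow, algebraMap_smul, smul_smul, pow_succ']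
  have hvu₂ : ∀ i, v₂ i ∘ₗ u₂ i = a i ^ (k + 1) • LinearMap.id := fun i => LinearMap.ext fun x => by
    show v i (P i (u i x • E i)) = a i ^ (k + 1) • x
    rw [map_smul, (hEP i).2, smul_eq_mul, mul_comm, ← map_pow, ← Algebra.smul_def, map_smul, hvu', smul_smul,
      ← pow_succ]
  letI : AddCommGroup ((TensorPower A (k - 1) (⋀[A]^n B)) ⊗[A] (⋀[A]^n (⋀[B]^k M))) :=
    @TensorProduct.addCommGroup A _ (TensorPower A (k - 1) (⋀[A]^n B)) (⋀[A]^n (⋀[B]^k M)) _ _ _ _
  refine nonempty_equiv_of_gens hspan (2 * (n * k)) (fun i => topGen (bigU k (u i) (U i)))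
    (fun i => topProj (bigV k (v i) (V i))) (fun i => ?_)
    (fun i => (PiTensorProduct.tprod A fun _ : Fin (k - 1) => topGen (u i)) ⊗ₜ[A] topGen (u₂ i))
    (fun i => TensorProduct.lift ((LinearMap.mul A A).compl₁₂
      (PiTensorProduct.lift ((MultilinearMap.mkPiAlgebra A (Fin (k - 1)) A).compLinearMap fun _ => topProj (v i)))
      (topProj (v₂ i)))) (fun i => ?_) fun s t => ?_
  · rw [pow_mul, sq]
    exact isGen_top _ _ (hbig₁ i) (hbig₂ i)
  · obtain ⟨k', rfl⟩ : ∃ k', k = k' + 1 := ⟨k - 1, (Nat.succ_pred_eq_of_pos hk).symm⟩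
    rw [show a i ^ (2 * (n * (k' + 1))) = (a i ^ n) ^ k' * (a i ^ (k' + 1 + 1)) ^ n by
      rw [← pow_mul, ← pow_mul, ← pow_add]; congr 1; ring]
    exact isGen_tmul (isGen_pow (isGen_top _ _ (huv i) (hvu i)) _) (isGen_top _ _ (huv₂ i) (hvu₂ i))
  · obtain ⟨j, hj⟩ := exists_det_comp_eq (k - 1) (by rw [Fintype.card_fin]; exact (Nat.succ_pred_eq_of_pos hk).symm)
      (a t) (u t) (v t) (huv t) (hvu t) (v s) (LinearMap.toMatrix' (V s ∘ₗ U t))
    refine ⟨j, ?_⟩
    have h1 : (PiTensorProduct.lift ((MultilinearMap.mkPiAlgebra A (Fin (k - 1)) A).compLinearMap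
        fun _ => topProj (v s))) (PiTensorProduct.tprod A fun _ : Fin (k - 1) => topGen (u t)) =
        LinearMap.det (v s ∘ₗ u t) ^ (k - 1) := by
      simp [topProj_topGen]
    have h2 : topProj (v₂ s) (topGen (u₂ t)) =
        (coordMat (u t) (v s) (LinearMap.toMatrix' (V s ∘ₗ U t)).det).det := by
      rw [topProj_topGen, coordMat, LinearMap.det_toMatrix', LinearMap.det_toMatrix', ← topProj_topGen (V s) (U t)]
      refine congrArg _ (LinearMap.ext fun x => ?_)
      show v s (P s (u t x • E t)) = v s (P s (E t) * u t x)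
      rw [map_smul, smul_eq_mul, mul_comm]
    show _ = (a s * a t) ^ j * (_ * _)
    rw [h1, h2, topProj_topGen, det_bigV_bigU, mul_pow, mul_assoc, hj, ← mul_assoc]

end Groth.Agent.DetNorm
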