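import Groth.Agent.DetNorm.Approx
import Mathlib.LinearAlgebra.Matrix.Adjugate
import Mathlib.LinearAlgebra.Matrix.ToLin

/-! Local bases over the base of a projective module of constant rank over a finite algebra. -/

set_option autoImplicit false

universe u v

namespace Groth.Agent.DetNorm

theorem exists_separating {A B : Type u} [CommRing A] [CommRing B] [Algebra A B] [Algebra.IsIntegral A B]
    (q : Ideal A) (S : Finset (Ideal B)) (hS : ∀ P ∈ S, P.IsPrime ∧ P.LiesOver q) (P : S) :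
    ∃ c : B, c ∉ P.1 ∧ ∀ Q : S, Q ≠ P → c ∈ Q.1 := by
  classical
  haveI := (hS P P.2).1
  have hle : ∀ Q : S, Q ≠ P → ¬ Q.1 ≤ P.1 := fun Q hQ hle => by
    haveI := (hS Q Q.2).1
    obtain ⟨y, hyP, hyQ⟩ := SetLike.exists_of_lt (Ideal.IsIntegral.comap_lt_comap (R := A)
      (lt_of_le_of_ne hle fun e => hQ (Subtype.ext e)))
    exact hyQ (by rw [← Ideal.under_def, ← (hS Q Q.2).2.over, (hS P P.2).2.over]; exact hyP)
  choose z hz1 hz2 using fun Q : {Q : S // Q ≠ P} => SetLike.not_le_iff_exists.1 (hle Q.1 Q.2)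
  refine ⟨∏ Q, z Q, fun hmem => ?_, fun Q hQ => Ideal.prod_mem _ (Finset.mem_univ ⟨Q, hQ⟩) (hz1 ⟨Q, hQ⟩)⟩
  obtain ⟨Q, -, hQ⟩ := (Ideal.IsPrime.prod_mem_iff).1 hmem
  exact hz2 Q hQ

variable {B : Type u} [CommRing B] {M : Type v} [AddCommGroup M] [Module B M]

theorem pow_smul_defect [Module.Finite B M] [Module.Projective B M] (k : ℕ)
    (h : ∀ P : PrimeSpectrum B,
      Module.finrank (Localization.AtPrime P.asIdeal) (LocalizedModule P.asIdeal.primeCompl M) = k)
    (a : B) (U : (Fin k → B) →ₗ[B] M) (V : M →ₗ[B] (Fin k → B)) (hVU : V ∘ₗ U = a • LinearMap.id) (m : M) :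
    a ^ k • U (V m) = a ^ k • a • m := by
  classical
  rw [← sub_eq_zero]
  by_contra hne
  let x := a ^ k • U (V m) - a ^ k • a • m
  have hJ : LinearMap.ker (LinearMap.toSpanSingleton B M x) ≠ ⊤ := fun hJ => hne (by
    simpa [x] using (hJ.ge (Submodule.mem_top (x := (1 : B)))))
  obtain ⟨P, hP, hJP⟩ := Ideal.exists_le_maximal _ hJ
  haveI := hP.isPrime
  obtain ⟨a₀, ha₀, u, v, huv, hvu⟩ := exists_approx P k (h ⟨P, inferInstance⟩)
  refine mt (‹P.IsPrime›.mem_of_pow_mem (k + 2)) ha₀ (hJP ?_)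
  let X := LinearMap.toMatrix' (V ∘ₗ u)
  let Y := LinearMap.toMatrix' (v ∘ₗ U)
  have hXY : X * Y = (a₀ * a) • 1 := by
    rw [← LinearMap.toMatrix'_comp, LinearMap.comp_assoc, ← LinearMap.comp_assoc U v u, huv, LinearMap.smul_comp,
      LinearMap.id_comp, LinearMap.comp_smul, hVU, smul_smul, map_smul, LinearMap.toMatrix'_id]
  have hdet : X.det * Y.det = (a₀ * a) ^ k := by
    rw [← Matrix.det_mul, hXY, Matrix.det_smul, Matrix.det_one, mul_one, Fintype.card_fin]
  have h0 : (Y * X - (a₀ * a) • 1) * Y = 0 := by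
    rw [sub_mul, mul_assoc, hXY, mul_smul_comm, smul_mul_assoc, one_mul, mul_one, sub_self]
  have h1 : Y.det • (Y * X - (a₀ * a) • 1) = 0 := by
    have := congrArg (· * Y.adjugate) h0
    simpa only [mul_assoc, Matrix.mul_adjugate, mul_smul_comm, mul_one, zero_mul] using this
  have h2 : (a₀ * a) ^ k • (Y * X - (a₀ * a) • 1) = 0 := by
    rw [← hdet, mul_smul, h1, smul_zero]
  have hZ : LinearMap.toMatrix' (v ∘ₗ ((U ∘ₗ V - a • LinearMap.id) ∘ₗ u)) = Y * X - (a₀ * a) • 1 := by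
    rw [LinearMap.sub_comp, LinearMap.comp_sub, LinearMap.smul_comp, LinearMap.id_comp, LinearMap.comp_smul, hvu,
      smul_smul, mul_comm a, map_sub, map_smul, LinearMap.toMatrix'_id, ← LinearMap.toMatrix'_comp,
      LinearMap.comp_assoc, LinearMap.comp_assoc]
  have h3 : (a₀ * a) ^ k • (v ∘ₗ ((U ∘ₗ V - a • LinearMap.id) ∘ₗ u)) = 0 :=
    LinearMap.toMatrix'.injective (by rw [map_smul, hZ, h2, map_zero])
  have h4 := congrArg u (LinearMap.congr_fun h3 (v m))
  have hu : ∀ y, u (v y) = a₀ • y := fun y => LinearMap.congr_fun huv y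
  simp only [LinearMap.smul_apply, LinearMap.comp_apply, LinearMap.sub_apply, LinearMap.id_apply, map_smul,
    LinearMap.zero_apply, map_zero, map_sub, hu] at h4
  simp only [LinearMap.mem_ker, LinearMap.toSpanSingleton_apply, x]
  rw [← h4]
  module

theorem exists_basis_rank {A B : Type u} [CommRing A] [CommRing B] [Algebra A B] [Module.Finite A B]
    [Module B M] [Module.Finite B M] [Module.Projective B M] (k : ℕ)
    (h : ∀ P : PrimeSpectrum B,
      Module.finrank (Localization.AtPrime P.asIdeal) (LocalizedModule P.asIdeal.primeCompl M) = k)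
    (q : Ideal A) [q.IsPrime] : ∃ a ∉ q, ∃ (U : (Fin k → B) →ₗ[B] M) (V : M →ₗ[B] (Fin k → B)),
      U ∘ₗ V = algebraMap A B a • LinearMap.id ∧ V ∘ₗ U = algebraMap A B a • LinearMap.id := by
  classical
  let S := (Algebra.QuasiFinite.finite_primesOver (S := B) q).toFinset
  have hS : ∀ P ∈ S, P.IsPrime ∧ P.LiesOver q := fun P hP => by
    simpa [S, Ideal.primesOver] using hP
  have hloc : ∀ P : S, ∃ a ∉ P.1, ∃ (u : (Fin k → B) →ₗ[B] M) (v : M →ₗ[B] (Fin k → B)),
      u ∘ₗ v = a • LinearMap.id ∧ v ∘ₗ u = a • LinearMap.id := fun P => by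
    haveI := (hS P P.2).1
    exact exists_approx P.1 k (h ⟨P.1, inferInstance⟩)
  choose aa haa uu vv huv hvu using hloc
  choose c hc1 hc2 using exists_separating q S hS
  let U : (Fin k → B) →ₗ[B] M := ∑ P, c P • uu P
  let V : M →ₗ[B] (Fin k → B) := ∑ P, c P • vv P
  let X := LinearMap.toMatrix' (V ∘ₗ U)
  have hβ : ∀ P : S, X.det ∉ P.1 := fun P hmem => by
    haveI := (hS P P.2).1
    let π := Ideal.Quotient.mk P.1
    have hother : ∀ Q : S, Q ≠ P → π (c Q) = 0 := fun Q hQ =>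
      Ideal.Quotient.eq_zero_iff_mem.2 (hc2 Q P hQ.symm)
    have hX : π.mapMatrix X = π (c P * c P * aa P) • 1 := by
      have hUV : V ∘ₗ U = ∑ Q, ∑ Q', (c Q * c Q') • (vv Q ∘ₗ uu Q') := LinearMap.ext fun x => by
        simp only [U, V, LinearMap.comp_apply, LinearMap.sum_apply, LinearMap.smul_apply, map_sum, map_smul,
          Finset.smul_sum, smul_smul]
        rw [Finset.sum_comm]
        exact Finset.sum_congr rfl fun Q _ => Finset.sum_congr rfl fun Q' _ => by rw [mul_comm (c Q')]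
      rw [show X = ∑ Q, ∑ Q', (c Q * c Q') • LinearMap.toMatrix' (vv Q ∘ₗ uu Q') by
        simp only [X, hUV, map_sum, map_smul]]
      ext i l
      simp only [RingHom.mapMatrix_apply, Matrix.map_apply, Matrix.sum_apply, map_sum, Matrix.smul_apply,
        smul_eq_mul, map_mul]
      rw [Finset.sum_eq_single P, Finset.sum_eq_single P, hvu P, map_smul, LinearMap.toMatrix'_id]
      · simp [Matrix.smul_apply, Matrix.one_apply, mul_assoc, apply_ite π]
      · exact fun Q _ hQ => by rw [hother Q hQ, mul_zero, zero_mul]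
      · exact fun hP => absurd (Finset.mem_univ P) hP
      · exact fun Q _ hQ => Finset.sum_eq_zero fun Q' _ => by rw [hother Q hQ, zero_mul, zero_mul]
      · exact fun hP => absurd (Finset.mem_univ P) hP
    have h1 : π ((c P * c P * aa P) ^ k) = 0 := by
      rw [← Ideal.Quotient.eq_zero_iff_mem.2 hmem, RingHom.map_det, hX, Matrix.det_smul, Matrix.det_one, mul_one,
        Fintype.card_fin, map_pow]
    exact mt (‹P.1.IsPrime›.mem_of_pow_mem k)
      (‹P.1.IsPrime›.mul_notMem (‹P.1.IsPrime›.mul_notMem (hc1 P) (hc1 P)) (haa P))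
      (Ideal.Quotient.eq_zero_iff_mem.1 h1)
  have hnle : ¬ (Ideal.span {X.det}).comap (algebraMap A B) ≤ q := fun hle => by
    obtain ⟨P, hP, hPp, hPq⟩ := Ideal.exists_ideal_over_prime_of_isIntegral q (Ideal.span {X.det}) hle
    have hPS : P ∈ S := (Set.Finite.mem_toFinset _).2 ⟨hPp, ⟨hPq.symm⟩⟩
    exact hβ ⟨P, hPS⟩ (hP (Ideal.mem_span_singleton_self _))
  obtain ⟨a, haI, haq⟩ := SetLike.not_le_iff_exists.1 hnle
  obtain ⟨b, hb⟩ := Ideal.mem_span_singleton'.1 (Ideal.mem_comap.1 haI)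
  let V' := Matrix.toLin' (b • X.adjugate) ∘ₗ V
  have hV'U : V' ∘ₗ U = algebraMap A B a • LinearMap.id := by
    apply LinearMap.toMatrix'.injective
    rw [LinearMap.comp_assoc, LinearMap.toMatrix'_comp, LinearMap.toMatrix'_toLin', map_smul,
      LinearMap.toMatrix'_id, smul_mul_assoc, Matrix.adjugate_mul, smul_smul, hb]
  refine ⟨a ^ (k + 1), mt (‹q.IsPrime›.mem_of_pow_mem _) haq, U, algebraMap A B a ^ k • V', ?_, ?_⟩
  · refine LinearMap.ext fun m => ?_
    simp only [LinearMap.comp_apply, LinearMap.smul_apply, LinearMap.id_apply, map_smul]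
    rw [pow_smul_defect k h _ U V' hV'U m, smul_smul, map_pow, ← pow_succ]
  · rw [LinearMap.smul_comp, hV'U, smul_smul, map_pow, ← pow_succ]

end Groth.Agent.DetNorm
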