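import Groth.Agent.DetNorm.Approx
import Mathlib.LinearAlgebra.ExteriorPower.Basis
import Mathlib.LinearAlgebra.TensorProduct.Tower
import Mathlib.RingTheory.Ideal.Maps

/-! The determinant over the base of a tensor product of invertible modules. -/

set_option autoImplicit false

universe u

open TensorProduct

namespace Groth.Agent.DetNorm

variable {A : Type u} [CommRing A] {n : ℕ}

theorem map_smul_id {M : Type u} [AddCommGroup M] [Module A M] (a : A) :
    exteriorPower.map n (a • LinearMap.id : M →ₗ[A] M) = a ^ n • LinearMap.id := by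
  ext m
  simp only [LinearMap.compAlternatingMap_apply, exteriorPower.map_apply_ιMulti, LinearMap.smul_apply,
    LinearMap.id_apply]
  simp only [Function.comp_def, LinearMap.smul_apply, LinearMap.id_apply]
  have h := (exteriorPower.ιMulti A n (M := M)).map_smul_univ (fun _ => a) m
  simp only [Finset.prod_const, Finset.card_univ, Fintype.card_fin] at h
  exact congrArg Subtype.val h

theorem exists_scalar_free (f : (⋀[A]^n (Fin n → A)) →ₗ[A] ⋀[A]^n (Fin n → A)) :
    ∃ d : A, f = d • LinearMap.id := by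
  classical
  let b := (Pi.basisFun A (Fin n)).exteriorPower n
  haveI : Subsingleton (Set.powersetCard (Fin n) n) := by
    refine ⟨fun s t => Subtype.ext ?_⟩
    have hs : ∀ s : Set.powersetCard (Fin n) n, (s.1 : Finset (Fin n)) = Finset.univ := fun s =>
      (Finset.card_eq_iff_eq_univ _).1 (by rw [Fintype.card_fin]; exact s.2)
    rw [hs s, hs t]
  rcases isEmpty_or_nonempty (Set.powersetCard (Fin n) n) with h | h
  · exact ⟨0, b.ext fun i => h.elim i⟩
  · obtain ⟨i⟩ := h
    refine ⟨b.repr (f (b i)) i, b.ext fun j => ?_⟩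
    rw [Subsingleton.elim j i]
    conv_lhs => rw [← b.sum_repr (f (b i))]
    haveI : Unique (Set.powersetCard (Fin n) n) := uniqueOfSubsingleton i
    rw [Fintype.sum_unique, Subsingleton.elim default i]
    rfl

theorem eq_smul_of_cover {L : Type u} [AddCommGroup L] [Module A L] {ι : Type*} [Fintype ι] (c : ι → A)
    (r : ι → A) (h1 : ∑ i, r i * c i = 1) (f g : L →ₗ[A] L) (h : ∀ i, c i • f = c i • g) : f = g := by
  have := congrArg (fun x : A => x • f) h1
  simp only [Finset.sum_smul, mul_smul, h, one_smul] at this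
  rw [← this]
  simp only [← mul_smul, ← Finset.sum_smul, h1, one_smul]

variable {B : Type u} [CommRing B] [Algebra A B]

/-- Multiplication by `b`, linear over the base. -/
noncomputable abbrev mulMap (M : Type u) [AddCommGroup M] [Module B M] [Module A M] [IsScalarTower A B M] (b : B) :
    M →ₗ[A] M := (LinearMap.lsmul B M b).restrictScalars A

theorem map_mulMap_mul (b b' : B) : exteriorPower.map n (mulMap (A := A) B (b * b')) =
    exteriorPower.map n (mulMap (A := A) B b) ∘ₗ exteriorPower.map n (mulMap (A := A) B b') := by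
  rw [← exteriorPower.map_comp]
  congr 1
  ext x
  exact mul_assoc b b' x

variable {ι : Type} [Fintype ι]

theorem exists_scalar (a r : ι → A) (h1 : ∑ i, r i * a i ^ (2 * n) = 1)
    (u : ι → (Fin n → A) →ₗ[A] B) (v : ι → B →ₗ[A] (Fin n → A))
    (huv : ∀ i, u i ∘ₗ v i = a i • LinearMap.id) (f : (⋀[A]^n B) →ₗ[A] ⋀[A]^n B) :
    ∃ d : A, f = d • LinearMap.id := by
  choose d hd using fun i => exists_scalar_free (exteriorPower.map n (v i) ∘ₗ f ∘ₗ exteriorPower.map n (u i))
  have hUV : ∀ i, exteriorPower.map n (u i) ∘ₗ exteriorPower.map n (v i) = a i ^ n • LinearMap.id := fun i => by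
    rw [← exteriorPower.map_comp, huv, map_smul_id]
  have key : ∀ i, a i ^ (2 * n) • f = (d i * a i ^ n) • LinearMap.id := fun i => by
    have h := congrArg (fun g => exteriorPower.map n (u i) ∘ₗ g ∘ₗ exteriorPower.map n (v i)) (hd i)
    simp only [LinearMap.comp_assoc, hUV, LinearMap.smul_comp, LinearMap.comp_smul, LinearMap.id_comp] at h
    simp only [LinearMap.comp_id] at h
    rw [← LinearMap.comp_assoc, hUV] at h
    simp only [LinearMap.smul_comp, LinearMap.id_comp, smul_smul] at h
    rw [← pow_add, ← two_mul] at h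
    exact h
  refine ⟨∑ i, r i * (d i * a i ^ n), ?_⟩
  rw [Finset.sum_smul, ← one_smul A f, ← h1, Finset.sum_smul]
  exact Finset.sum_congr rfl fun i _ => by rw [mul_smul, key, ← mul_smul]

theorem map_mulMap_eq {M : Type u} [AddCommGroup M] [Module B M] [Module A M] [IsScalarTower A B M]
    (a r : ι → A) (h1 : ∑ i, r i * a i ^ n = 1) (e : ι → M) (p : ι → M →ₗ[B] B)
    (hg : ∀ i, IsGen (algebraMap A B (a i)) (e i) (p i)) (b : B) (d : A)
    (hd : exteriorPower.map n (mulMap (A := A) B b) = d • LinearMap.id) :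
    exteriorPower.map n (mulMap (A := A) M b) = d • LinearMap.id := by
  refine eq_smul_of_cover (fun i => a i ^ n) r h1 _ _ fun i => ?_
  let E : B →ₗ[A] M := (LinearMap.toSpanSingleton B M (e i)).restrictScalars A
  let P : M →ₗ[A] B := (p i).restrictScalars A
  have hEP : E ∘ₗ P = a i • LinearMap.id := LinearMap.ext fun m => by
    show p i m • e i = a i • m
    rw [(hg i).1, algebraMap_smul]
  have hcomm : a i • mulMap (A := A) M b = E ∘ₗ mulMap (A := A) B b ∘ₗ P := LinearMap.ext fun m => by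
    show a i • (b • m) = (b * p i m) • e i
    rw [mul_smul, (hg i).1, algebraMap_smul, smul_comm]
  have h := congrArg (exteriorPower.map n) hcomm
  rw [exteriorPower.map_comp, exteriorPower.map_comp, hd, LinearMap.smul_comp, LinearMap.id_comp,
    LinearMap.comp_smul, ← exteriorPower.map_comp, hEP, map_smul_id,
    show a i • mulMap (A := A) M b = (a i • LinearMap.id) ∘ₗ mulMap (A := A) M b by
      rw [LinearMap.smul_comp, LinearMap.id_comp],
    exteriorPower.map_comp, map_smul_id, LinearMap.smul_comp, LinearMap.id_comp] at h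
  rw [h, smul_comm]

theorem map_tensor_eq {N L : Type u} [AddCommGroup N] [Module B N] [Module A N] [IsScalarTower A B N]
    [AddCommGroup L] [Module B L] [Module A L] [IsScalarTower A B L] (β γ : B) (a : A) (d d' : A)
    (hd : exteriorPower.map n (mulMap (A := A) B β) = d • LinearMap.id)
    (hd' : exteriorPower.map n (mulMap (A := A) B γ) = d' • LinearMap.id)
    (hN : exteriorPower.map n (mulMap (A := A) N β) = d • LinearMap.id)
    (hL : exteriorPower.map n (mulMap (A := A) L γ) = d' • LinearMap.id)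
    (hab : β * γ = algebraMap A B a) (hreg : ∀ x : A, (x • LinearMap.id : (⋀[A]^n B) →ₗ[A] ⋀[A]^n B) = 0 → x = 0) :
    TensorProduct.map (exteriorPower.map n (mulMap (A := A) N β)) (exteriorPower.map n (mulMap (A := A) L γ)) =
      a ^ n • LinearMap.id := by
  have h := map_mulMap_mul (A := A) (n := n) β γ
  rw [hd, hd', hab, show mulMap (A := A) B (algebraMap A B a) = a • LinearMap.id from
    LinearMap.ext fun x => (Algebra.smul_def a x).symm, map_smul_id, LinearMap.smul_comp, LinearMap.id_comp,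
    smul_smul] at h
  have h' : a ^ n = d * d' := sub_eq_zero.1 (hreg _ (LinearMap.ext fun z => by
    have := LinearMap.congr_fun h z
    simp only [LinearMap.smul_apply, LinearMap.id_apply] at this
    rw [LinearMap.smul_apply, LinearMap.id_apply, LinearMap.zero_apply, sub_smul, this, sub_self]))
  rw [hN, hL, TensorProduct.map_smul_left, TensorProduct.map_smul_right, TensorProduct.map_id, smul_smul, h']

theorem nonempty_equiv_of_data {M₁ M₂ : Type u} [AddCommGroup M₁] [Module B M₁] [Module A M₁]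
    [IsScalarTower A B M₁] [AddCommGroup M₂] [Module B M₂] [Module A M₂] [IsScalarTower A B M₂]
    (hcomm : ∀ (p : M₁ →ₗ[B] B) (m x : M₁), p m • x = p x • m)
    (a r r' : ι → A) (h1 : ∑ i, r i * a i ^ n = 1) (h2 : ∑ i, r' i * a i ^ (2 * n) = 1)
    (u : ι → (Fin n → A) →ₗ[A] B) (v : ι → B →ₗ[A] (Fin n → A))
    (huv : ∀ i, u i ∘ₗ v i = a i • LinearMap.id) (hvu : ∀ i, v i ∘ₗ u i = a i • LinearMap.id)
    (e₁ : ι → M₁) (p₁ : ι → M₁ →ₗ[B] B) (hg₁ : ∀ i, IsGen (algebraMap A B (a i)) (e₁ i) (p₁ i))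
    (e₂ : ι → M₂) (p₂ : ι → M₂ →ₗ[B] B) (hg₂ : ∀ i, IsGen (algebraMap A B (a i)) (e₂ i) (p₂ i)) :
    Nonempty ((⋀[A]^n B) ⊗[A] (⋀[A]^n (M₁ ⊗[B] M₂)) ≃ₗ[A] (⋀[A]^n M₁) ⊗[A] (⋀[A]^n M₂)) := by
  classical
  have hreg : ∀ x : A, (x • LinearMap.id : (⋀[A]^n B) →ₗ[A] ⋀[A]^n B) = 0 → x = 0 := fun x hx => by
    have h0 : ∀ i, x * a i ^ (2 * n) = 0 := fun i => by
      have h := congrArg (fun g => exteriorPower.map n (v i) ∘ₗ g ∘ₗ exteriorPower.map n (u i)) hx
      simp only [LinearMap.zero_comp, LinearMap.comp_zero, LinearMap.smul_comp, LinearMap.comp_smul,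
        LinearMap.id_comp, ← exteriorPower.map_comp, hvu, map_smul_id, smul_smul] at h
      have hb := LinearMap.congr_fun h ((Pi.basisFun A (Fin n)).exteriorPower n ⟨Finset.univ, by simp⟩)
      have hc := congrArg (fun z => ((Pi.basisFun A (Fin n)).exteriorPower n).repr z ⟨Finset.univ, by simp⟩) hb
      simp at hc
      rw [two_mul, pow_add, ← mul_assoc, hc, zero_mul]
    calc x = x * ∑ i, r' i * a i ^ (2 * n) := by rw [h2, mul_one]
      _ = ∑ i, x * (r' i * a i ^ (2 * n)) := Finset.mul_sum _ _ _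
      _ = 0 := Finset.sum_eq_zero fun i _ => by rw [mul_left_comm, h0, mul_zero]
  choose d hd using fun b : B => exists_scalar a r' h2 u v huv (exteriorPower.map n (mulMap (A := A) B b))
  let L := M₁ ⊗[B] M₂
  have hd₁ := fun b => map_mulMap_eq a r h1 e₁ p₁ hg₁ b (d b) (hd b)
  have hd₂ := fun b => map_mulMap_eq a r h1 e₂ p₂ hg₂ b (d b) (hd b)
  have hdL : ∀ b, exteriorPower.map n (mulMap (A := A) L b) = d b • LinearMap.id := fun b => by
    refine map_mulMap_eq (fun i => a i * a i) r' (by simpa [← mul_pow, two_mul, pow_add] using h2)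
      (fun i => e₁ i ⊗ₜ[B] e₂ i) (fun i => TensorProduct.lift ((LinearMap.mul B B).compl₁₂ (p₁ i) (p₂ i)))
      (fun i => ⟨fun z => ?_, ?_⟩) b (d b) (hd b)
    · induction z using TensorProduct.induction_on with
      | zero => simp
      | add x y hx hy => rw [map_add, add_smul, hx, hy, smul_add]
      | tmul x y =>
        show (p₁ i x * p₂ i y) • (e₁ i ⊗ₜ[B] e₂ i) = algebraMap A B (a i * a i) • (x ⊗ₜ[B] y)
        rw [← TensorProduct.smul_tmul_smul, (hg₁ i).1, (hg₂ i).1, TensorProduct.smul_tmul_smul, map_mul]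
    · show p₁ i (e₁ i) * p₂ i (e₂ i) = _
      rw [(hg₁ i).2, (hg₂ i).2, map_mul]
  let E : ι → (B →ₗ[A] M₁) := fun i => (LinearMap.toSpanSingleton B M₁ (e₁ i)).restrictScalars A
  let H : ι → (M₂ →ₗ[A] L) := fun i => ((TensorProduct.mk B M₁ M₂) (e₁ i)).restrictScalars A
  let G : ι → (L →ₗ[A] M₂) := fun i =>
    (TensorProduct.lift ((LinearMap.lsmul B M₂).comp (p₁ i))).restrictScalars A
  let P : ι → (M₁ →ₗ[A] B) := fun i => (p₁ i).restrictScalars A
  let Φ := fun i => TensorProduct.map (exteriorPower.map n (P i)) (exteriorPower.map n (H i))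
  let Ψ := fun i => TensorProduct.map (exteriorPower.map n (E i)) (exteriorPower.map n (G i))
  have hst : ∀ s t, p₁ s (e₁ t) * p₁ t (e₁ s) = algebraMap A B (a t * a s) := fun s t => by
    rw [mul_comm, ← smul_eq_mul, ← map_smul, (hg₁ t).1, map_smul, (hg₁ s).2, smul_eq_mul, ← map_mul]
  have hΦΨ : ∀ s t, Φ s ∘ₗ Ψ t = (a t * a s) ^ n • LinearMap.id := fun s t => by
    rw [← TensorProduct.map_comp, ← exteriorPower.map_comp, ← exteriorPower.map_comp,
      show P s ∘ₗ E t = mulMap (A := A) B (p₁ s (e₁ t)) from LinearMap.ext fun x => by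
        show p₁ s (x • e₁ t) = p₁ s (e₁ t) * x
        rw [map_smul, smul_eq_mul, mul_comm],
      show H s ∘ₗ G t = mulMap (A := A) L (p₁ t (e₁ s)) from LinearMap.ext fun z => by
        show e₁ s ⊗ₜ[B] (TensorProduct.lift ((LinearMap.lsmul B M₂).comp (p₁ t)) z) = p₁ t (e₁ s) • z
        induction z using TensorProduct.induction_on with
        | zero => simp
        | add x y hx hy => rw [map_add, tmul_add, hx, hy, smul_add]
        | tmul x y =>
          show e₁ s ⊗ₜ[B] (p₁ t x • y) = p₁ t (e₁ s) • (x ⊗ₜ[B] y)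
          rw [TensorProduct.tmul_smul, TensorProduct.smul_tmul', TensorProduct.smul_tmul', hcomm]]
    exact map_tensor_eq _ _ _ _ _ (hd _) (hd _) (hd _) (hdL _) (hst s t) hreg
  have hΨΦ : ∀ s t, Ψ t ∘ₗ Φ s = (a t * a s) ^ n • LinearMap.id := fun s t => by
    rw [← TensorProduct.map_comp, ← exteriorPower.map_comp, ← exteriorPower.map_comp,
      show E t ∘ₗ P s = mulMap (A := A) M₁ (p₁ s (e₁ t)) from LinearMap.ext fun m => hcomm (p₁ s) m (e₁ t),
      show G t ∘ₗ H s = mulMap (A := A) M₂ (p₁ t (e₁ s)) from LinearMap.ext fun m => rfl]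
    exact map_tensor_eq _ _ _ _ _ (hd _) (hd _) (hd₁ _) (hd₂ _) (hst s t) hreg
  have hsum : ∑ s, ∑ t, r s * r t * (a t * a s) ^ n = 1 := by
    calc _ = (∑ s, r s * a s ^ n) * (∑ t, r t * a t ^ n) := by
          rw [Finset.sum_mul_sum]
          exact Finset.sum_congr rfl fun s _ => Finset.sum_congr rfl fun t _ => by rw [mul_pow]; ring
      _ = 1 := by rw [h1, one_mul]
  refine ⟨LinearEquiv.ofLinearMap (∑ t, r t • Ψ t) (∑ s, r s • Φ s) (LinearMap.ext fun z => ?_)
    (LinearMap.ext fun z => ?_)⟩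
  · have h : ∀ s t, Ψ t (Φ s z) = (a t * a s) ^ n • z := fun s t => LinearMap.congr_fun (hΨΦ s t) z
    simp only [LinearMap.comp_apply, LinearMap.sum_apply, map_sum, LinearMap.smul_apply, map_smul, h, smul_smul,
      LinearMap.id_apply]
    conv_rhs => rw [← one_smul A z, ← hsum, Finset.sum_smul]
    simp only [Finset.smul_sum, Finset.sum_smul, smul_smul]
    rw [Finset.sum_comm]
    exact Finset.sum_congr rfl fun s _ => Finset.sum_congr rfl fun t _ => by congr 1; ring
  · have h : ∀ s t, Φ s (Ψ t z) = (a t * a s) ^ n • z := fun s t => LinearMap.congr_fun (hΦΨ s t) z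
    simp only [LinearMap.comp_apply, LinearMap.sum_apply, map_sum, LinearMap.smul_apply, map_smul, h, smul_smul,
      LinearMap.id_apply]
    conv_rhs => rw [← one_smul A z, ← hsum, Finset.sum_smul]
    simp only [Finset.smul_sum, Finset.sum_smul, smul_smul]
    exact Finset.sum_congr rfl fun s _ => Finset.sum_congr rfl fun t _ => by congr 1; ring

end Groth.Agent.DetNorm
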